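import Mathlib
import Cfsg.Agent.Lib.Helper19.KAlt.Defs
import Cfsg.Agent.Lib.Helper75.LW.All
import Cfsg.Agent.S0415
import Cfsg.Agent.S0416
import Cfsg.Agent.S0417

/-!
# KALT project (S0747): package [SHN]
-/

set_option autoImplicit false

universe u

open Cfsg.Agent.Lib.Helper75.LW Cfsg.Agent.Lib.Helper19.KAlt

namespace Cfsg.Agent.Lib.Helper39.KAlt

/-- `Triv G k` gives sharpness on `k`-tuples -/
theorem sharp_of_triv {α : Type u} [Fintype α] [DecidableEq α] (G : Subgroup (Equiv.Perm α))
    (k : ℕ) (hT : Triv G k) : ∀ x : Fin k ↪ α, MulAction.stabilizer G x = ⊥ := by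
  intro x
  rw [eq_bot_iff]
  intro g hg
  rw [MulAction.mem_stabilizer_iff] at hg
  rw [Subgroup.mem_bot]
  have h1 : ∀ i, (g : Equiv.Perm α) (x i) = x i := by
    intro i
    have h : (g • x) i = x i := congrArg (fun f : Fin k ↪ α => f i) hg
    rw [Function.Embedding.smul_apply] at h
    exact h
  have h2 := hT (Finset.univ.map x) (by simp) (g : Equiv.Perm α) g.2 (by
    intro a ha
    simp only [Finset.mem_map, Finset.mem_univ, true_and] at ha
    obtain ⟨i, rfl⟩ := ha
    exact h1 i)
  exact Subtype.ext h2

/-- **[SHN]** -/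
theorem pkgShN : PkgShN.{u} := by
  intro α _ _ G k hk hkn hHT hT
  have : MulAction.IsMultiplyPretransitive G α k := (allBrT G k).mpr hHT
  have hsharp := sharp_of_triv G k hT
  rcases Nat.lt_or_ge k 6 with h6 | h6
  · have hk45 : k = 4 ∨ k = 5 := by omega
    rcases hk45 with rfl | rfl
    · have h := Cfsg.Agent.S0415.result G (by omega) hsharp
      rcases h with h | h | h | h
      · omega
      · left; omega
      · left; omega
      · right; left; exact ⟨rfl, h⟩
    · have h := Cfsg.Agent.S0416.result G (by omega) hsharp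
      rcases h with h | h | h | h
      · omega
      · left; omega
      · left; omega
      · right; right; exact ⟨rfl, h⟩
  · have h := Cfsg.Agent.S0417.result G k h6 (by omega) hsharp
    left
    rcases h with h | h | h <;> omega

end Cfsg.Agent.Lib.Helper39.KAlt
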