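import Mathlib
import Cfsg.Agent.Lib.Helper19.KAlt.Defs
import Cfsg.Agent.Lib.Helper75.LW.All

/-!
# KALT project (S0747): package [SHSMALL]
-/

set_option autoImplicit false

universe u

open Cfsg.Agent.Lib.Helper75.LW Cfsg.Agent.Lib.Helper19.KAlt

namespace Cfsg.Agent.Lib.Helper39.KAlt

/-- **[SHSMALL]** -/
theorem pkgShSmall : PkgShSmall.{u} := by
  intro α _ _ G k hk hkn hn2 hHT
  have hHT2 : HT G (Fintype.card α - 2) :=
    allMono G (Fintype.card α - 2) k (by omega) (by omega) hHT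
  have hmt : MulAction.IsMultiplyPretransitive G α (Nat.card α - 2) := by
    rw [Nat.card_eq_fintype_card]
    exact (allBrT G _).mpr hHT2
  have hA : alternatingGroup α ≤ G := IsMultiplyPretransitive.alternatingGroup_le α G hmt
  obtain ⟨Δ, -, hΔ⟩ := Finset.exists_subset_card_eq (s := (Finset.univ : Finset α))
    (n := k + 1) (by rw [Finset.card_univ]; omega)
  refine ⟨Δ, hΔ, ?_⟩
  intro σ hσ
  refine ⟨Equiv.Perm.ofSubtype σ, hA ?_, ?_⟩
  · rw [Equiv.Perm.mem_alternatingGroup, Equiv.Perm.sign_ofSubtype]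
    exact Equiv.Perm.mem_alternatingGroup.mp hσ
  · intro x
    exact Equiv.Perm.ofSubtype_apply_coe σ x

end Cfsg.Agent.Lib.Helper39.KAlt
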